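import Groth.Agent.CurvSt.K253.WeiPt
import Groth.Agent.EllLift.K820.FieldGrp
import Groth.Agent.AbVar.K869.EllGrp

/-!
# The Weierstrass coordinates of the Weierstrass model over a field
-/

set_option autoImplicit false
universe u

open CategoryTheory CategoryTheory.Limits MonoidalCategory CartesianMonoidalCategory MonObj GrpObj AlgebraicGeometry

namespace K409.ModCo

open K820.EW K253.WeiCoh Groth.Agent.VarietyA.Ell

section ring

variable {A : Type u} [CommRing A] (W : WeierstrassCurve A)

/-- `δ w = z³`. -/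
noncomputable def dl : RC W :=
  1 + iC W W.a₁ * zC W + iC W W.a₃ * wC W - iC W W.a₂ * zC W ^ 2 - iC W W.a₄ * (zC W * wC W) - iC W W.a₆ * wC W ^ 2

theorem dl_mul : dl W * wC W = zC W ^ 3 := by
  have h := wEqInf_C W
  unfold WEqInf at h
  unfold dl
  linear_combination h

theorem zC_ne_zero [Nontrivial A] : zC W ≠ 0 := by
  intro h
  have hnd : (polC W).natDegree = 3 := by
    unfold polC
    compute_degree!
  have h1 : AdjoinRoot.mk (polC W) Polynomial.X = 0 := by
    rw [AdjoinRoot.mk_X]
    exact h
  refine AdjoinRoot.mk_ne_zero_of_natDegree_lt (polC_monic W) Polynomial.X_ne_zero ?_ h1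
  rw [hnd, Polynomial.natDegree_X]
  norm_num

/-- evaluation at the origin -/
noncomputable def e0 : RC W →+* A := liftC (W := W) (RingHom.id A) 0 0 (wEqInf_zero W)

theorem e0_i (a : A) : e0 W (iC W a) = a := liftC_iC _ _ _ _ a
theorem e0_z : e0 W (zC W) = 0 := liftC_z _ _ _ _
theorem e0_w : e0 W (wC W) = 0 := liftC_w _ _ _ _

theorem e0_dl : e0 W (dl W) = 1 := by
  unfold dl
  simp only [map_sub, map_add, map_mul, map_pow, map_one, e0_i, e0_z, e0_w]
  ring

theorem mem_span_of_e0 {r : RC W} (h : e0 W r = 0) : r ∈ Ideal.span {zC W, wC W} := by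
  obtain ⟨k, hk⟩ := K820.FieldIso.exists_sub_mem W r
  have h1 : e0 W (r - iC W k) = 0 := by
    obtain ⟨a, b, hab⟩ := Ideal.mem_span_pair.1 hk
    rw [← hab, map_add, map_mul, map_mul, e0_z, e0_w, mul_zero, mul_zero, add_zero]
  rw [map_sub, h, e0_i, zero_sub, neg_eq_zero] at h1
  rwa [h1, map_zero, sub_zero] at hk

end ring

section co

variable {A : Type u} [CommRing A] (W : WeierstrassCurve A)

theorem fC_sc (a : A) : fC W (sc (str W) (oC W) a) = iC W a :=
  ev_sc' _ _ (iC W) (ιC_str W) _ _ _

/-- the coordinates of the Weierstrass model -/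
noncomputable def wco : WCo W (str W) (oU W) (oC W) where
  x := ((fU_bijective W).2 (xU W)).choose
  y := ((fU_bijective W).2 (yU W)).choose
  z := ((fC_bijective W).2 (zC W)).choose
  w := ((fC_bijective W).2 (wC W)).choose
  eqU := by
    have hx := ((fU_bijective W).2 (xU W)).choose_spec
    have hy := ((fU_bijective W).2 (yU W)).choose_spec
    unfold WEq
    apply (fU_bijective W).1
    simp only [map_add, map_mul, map_pow, fU_sc, hx, hy]
    exact wEq_U W
  eqV := by
    have hz := ((fC_bijective W).2 (zC W)).choose_spec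
    have hw := ((fC_bijective W).2 (wC W)).choose_spec
    unfold WEqInf
    apply (fC_bijective W).1
    simp only [map_add, map_mul, map_pow, fC_sc, hz, hw]
    exact wEqInf_C W
  rel_w := by
    have hy := ((fU_bijective W).2 (yU W)).choose_spec
    have hw := ((fC_bijective W).2 (wC W)).choose_spec
    apply (fL_bijective W).1
    rw [map_mul, fL_resC, fL_resU, hy, hw, map_one, resC_w]
    exact wL_mul W
  rel_z := by
    have hx := ((fU_bijective W).2 (xU W)).choose_spec
    have hy := ((fU_bijective W).2 (yU W)).choose_spec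
    have hz := ((fC_bijective W).2 (zC W)).choose_spec
    apply (fL_bijective W).1
    rw [map_mul, fL_resC, fL_resU, fL_resU, hx, hy, hz, resC_z]
    exact zL_mul W

theorem wco_z : fC W (wco W).z = zC W := ((fC_bijective W).2 (zC W)).choose_spec
theorem wco_w : fC W (wco W).w = wC W := ((fC_bijective W).2 (wC W)).choose_spec

/-- the section `δ` -/
noncomputable def ds : Γ(E W, oC W) := ((fC_bijective W).2 (dl W)).choose

theorem fC_ds : fC W (ds W) = dl W := ((fC_bijective W).2 (dl W)).choose_spec

theorem le_zero : (⊤ : (Spec (CommRingCat.of A)).Opens) ≤ zero W ⁻¹ᵁ oC W := fun _ _ => ⟨_, rfl⟩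

theorem ev_zero (a : Γ(E W, oC W)) : ev (zero W) (oC W) (le_zero W) a = e0 W (fC W a) :=
  ev_comp (ιC W) (e0 W) (oC W) (hC W) (zero W) rfl (le_zero W) a

theorem isUnit_ev : IsUnit (ev (zero W) (oC W) (le_zero W) (ds W)) := by
  rw [ev_zero, fC_ds, e0_dl]
  exact isUnit_one

theorem ds_mul : ds W * (wco W).w = (wco W).z ^ 3 := by
  apply (fC_bijective W).1
  rw [map_mul, map_pow, fC_ds, wco_z, wco_w, dl_mul]

end co

section field

variable {K : Type u} [Field K] (W : WeierstrassCurve K)

theorem mem_oU_iff (y : E W) : y ∈ oU W ↔ y ∉ Set.range (zero W) := by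
  constructor
  · rintro hy ⟨p, rfl⟩
    have h1 := (ιC_mem_range_ιU W (Spec.map (CommRingCat.ofHom (e0 W)) p)).1 hy
    apply h1
    change e0 W (wC W) ∈ p.asIdeal
    rw [e0_w]
    exact zero_mem _
  · intro h
    rcases exists_preimage W y with ⟨a, rfl⟩ | ⟨b, rfl⟩
    · exact ⟨a, rfl⟩
    · rw [ιC_mem_range_ιU]
      intro hw
      apply h
      have hz : zC W ∈ b.asIdeal := by
        have h1 : zC W ^ 3 ∈ b.asIdeal := by
          rw [← dl_mul]
          exact Ideal.mul_mem_left _ _ hw
        exact b.isPrime.mem_of_pow_mem _ h1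
      have hle : RingHom.ker (e0 W) ≤ b.asIdeal := by
        intro r hr
        have h1 := mem_span_of_e0 W hr
        refine (Ideal.span_le.2 ?_) h1
        rintro _ (rfl | rfl)
        · exact hz
        · exact hw
      have hmax : (RingHom.ker (e0 W)).IsMaximal :=
        RingHom.ker_isMaximal_of_surjective (e0 W) fun a => ⟨iC W a, e0_i W a⟩
      have heq : RingHom.ker (e0 W) = b.asIdeal := hmax.eq_of_le b.isPrime.ne_top hle
      refine ⟨IsLocalRing.closedPoint K, ?_⟩
      have h2 : Spec.map (CommRingCat.ofHom (e0 W)) (IsLocalRing.closedPoint K) = b := by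
        apply PrimeSpectrum.ext
        rw [← heq]
        ext r
        change e0 W r ∈ IsLocalRing.maximalIdeal K ↔ _
        rw [IsLocalRing.maximalIdeal_eq_bot, Ideal.mem_bot, RingHom.mem_ker]
      change ιC W (Spec.map (CommRingCat.ofHom (e0 W)) (IsLocalRing.closedPoint K)) = _
      rw [h2]

/-- **The coordinates of the Weierstrass model over a field.** -/
noncomputable def co : Co W (str W) (zero W) (oU W) where
  V := (E W).basicOpen (ds W)
  hV := (isAffineOpen_opensRange (ιC W)).basicOpen (ds W)
  heV := top_le_preimage_basicOpen (zero W) (le_zero W) (ds W) (isUnit_ev W)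
  hU := mem_oU_iff W
  c := (wco W).restrict ((E W).basicOpen_le (ds W))
  hz b hb := by
    have h1 : IsLocalization.Away (ds W) Γ(E W, (E W).basicOpen (ds W)) :=
      (isAffineOpen_opensRange (ιC W)).isLocalization_basicOpen (ds W)
    obtain ⟨⟨a, d⟩, had⟩ := IsLocalization.surj (Submonoid.powers (ds W)) b
    have had' : b * (E W).presheaf.map (homOfLE ((E W).basicOpen_le (ds W))).op d.1 =
      (E W).presheaf.map (homOfLE ((E W).basicOpen_le (ds W))).op a := had
    have hd : IsUnit ((E W).presheaf.map (homOfLE ((E W).basicOpen_le (ds W))).op d.1) :=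
      IsLocalization.map_units (M := Submonoid.powers (ds W)) Γ(E W, (E W).basicOpen (ds W)) d
    have ha : e0 W (fC W a) = 0 := by
      rw [← ev_zero, ← ev_res (zero W) ((E W).basicOpen_le (ds W))
        (top_le_preimage_basicOpen (zero W) (le_zero W) (ds W) (isUnit_ev W)) (le_zero W), ← had', map_mul, hb,
        zero_mul]
    obtain ⟨α, β, hαβ⟩ := Ideal.mem_span_pair.1 (mem_span_of_e0 W ha)
    obtain ⟨α', rfl⟩ := (fC_bijective W).2 α
    obtain ⟨β', rfl⟩ := (fC_bijective W).2 β
    have hab : α' * (wco W).z + β' * (wco W).w = a := by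
      apply (fC_bijective W).1
      rw [map_add, map_mul, map_mul, wco_z, wco_w]
      exact hαβ
    have hds : IsUnit ((E W).presheaf.map (homOfLE ((E W).basicOpen_le (ds W))).op (ds W)) :=
      IsLocalization.map_units (M := Submonoid.powers (ds W)) Γ(E W, (E W).basicOpen (ds W)) ⟨ds W, 1, pow_one _⟩
    have hdw := congrArg ((E W).presheaf.map (homOfLE ((E W).basicOpen_le (ds W))).op) (ds_mul W)
    have hab' := congrArg ((E W).presheaf.map (homOfLE ((E W).basicOpen_le (ds W))).op) hab
    rw [map_mul, map_pow] at hdw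
    rw [map_add, map_mul, map_mul, ← had'] at hab'
    obtain ⟨d', hd'⟩ := hd.exists_right_inv
    obtain ⟨s', hs'⟩ := hds.exists_right_inv
    change (E W).presheaf.map (homOfLE ((E W).basicOpen_le (ds W))).op (wco W).z ∣ b
    refine ⟨((E W).presheaf.map (homOfLE ((E W).basicOpen_le (ds W))).op α' +
      (E W).presheaf.map (homOfLE ((E W).basicOpen_le (ds W))).op β' * s' *
        ((E W).presheaf.map (homOfLE ((E W).basicOpen_le (ds W))).op (wco W).z) ^ 2) * d', ?_⟩
    linear_combination (-b) * hd' - d' * hab' + (d' * (E W).presheaf.map (homOfLE ((E W).basicOpen_le (ds W))).op β' * s') * hdw - (d' * (E W).presheaf.map (homOfLE ((E W).basicOpen_le (ds W))).op β' * (E W).presheaf.map (homOfLE ((E W).basicOpen_le (ds W))).op (wco W).w) * hs'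
  hz0 := by
    change ev (zero W) _ _ ((E W).presheaf.map (homOfLE ((E W).basicOpen_le (ds W))).op (wco W).z) = 0
    rw [ev_res (zero W) ((E W).basicOpen_le (ds W)) _ (le_zero W), ev_zero, wco_z, e0_z]
  hw0 := by
    change ev (zero W) _ _ ((E W).presheaf.map (homOfLE ((E W).basicOpen_le (ds W))).op (wco W).w) = 0
    rw [ev_res (zero W) ((E W).basicOpen_le (ds W)) _ (le_zero W), ev_zero, wco_w, e0_w]
  reg := by
    have hne : Nonempty ((E W).basicOpen (ds W) : (E W).Opens) :=
      ⟨⟨_, top_le_preimage_basicOpen (zero W) (le_zero W) (ds W) (isUnit_ev W)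
        (x := IsLocalRing.closedPoint K) trivial⟩⟩
    refine mem_nonZeroDivisors_of_ne_zero ?_
    change (E W).presheaf.map (homOfLE ((E W).basicOpen_le (ds W))).op (wco W).z ≠ 0
    intro h
    have h1 := map_injective_of_isIntegral (E W) (homOfLE ((E W).basicOpen_le (ds W)))
      (h.trans (map_zero _).symm)
    have h2 := wco_z W
    rw [h1, map_zero] at h2
    exact zC_ne_zero W h2.symm

end field

end K409.ModCo
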