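import Groth.Agent.Refuted.K409.ModCo

/-!
# A point of order two on an ordinary elliptic curve in characteristic two
-/

set_option autoImplicit false
universe u

open CategoryTheory CategoryTheory.Limits MonoidalCategory CartesianMonoidalCategory MonObj GrpObj AlgebraicGeometry

namespace K409.PtTwo

open K820.EW K409.ModCo Groth.Agent.VarietyA.Ell K253.WeiCoh

section grp

variable {A : Type u} [CommRing A] {W : WeierstrassCurve A} (hΔ : IsUnit W.Δ)

/-- The curve as an object over the base. -/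
noncomputable abbrev Ew (W : WeierstrassCurve A) : Over (Spec (CommRingCat.of A)) := Over.mk (str W)

instance geometricallyConnected (W : WeierstrassCurve A) : GeometricallyConnected (str W) :=
  ⟨fun _ _ t _ _ _ hP => have := (K253.WeiFib.fibre W t hP).1; inferInstance⟩

theorem fibre_dim (W : WeierstrassCurve A) (s : Spec (CommRingCat.of A)) :
    topologicalKrullDim ↥((str W).fiber s) = 1 :=
  (K253.WeiFib.fibre W _ (IsPullback.of_hasPullback (str W) ((Spec (CommRingCat.of A)).fromSpecResidueField s))).2.1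

include hΔ in
theorem isCurve : K333.Fam.IsCurve (str W) 1 := by
  have := K253.WeiSmooth.smooth_str hΔ
  refine K333.Fam.isCurve_of_fibres (str W) (fibre_dim W) 1 fun s => ?_
  exact (K253.WeiFib.fibre W _ (IsPullback.of_hasPullback (str W) ((Spec (CommRingCat.of A)).fromSpecResidueField s))).2.2

include hΔ in
theorem isAbSch : AgPol.IsAbSch (Ew W) 1 where
  smooth := K253.WeiSmooth.smooth_str hΔ
  proper := K253.WeiProper.isProper_str W
  geomConnected := geometricallyConnected W
  fibreDim s := by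
    rw [Nat.cast_one]
    exact fibre_dim W s

include hΔ in
theorem rel : SmoothOfRelativeDimension 1 (str W) := (isCurve hΔ).rel

/-- The group law. -/
@[reducible]
noncomputable def grp : GrpObj (Ew W) :=
  haveI := rel hΔ
  GrpObj.ofRepresentableBy (Over.mk (str W)) (K416.EllGroup.R0F (isCurve hΔ) (zero W) (zero_str W))
    (K416.EllGroup.rep (isCurve hΔ) (zero W) (zero_str W))

/-- The unit section. -/
theorem one_left : letI := grp hΔ; (η[Ew W] : 𝟙_ _ ⟶ Ew W).left = zero W := by
  let _ := grp hΔ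
  have := rel hΔ
  let s := K416.EllGroup.sT (zero W) (zero_str W) (𝟙_ (Over (Spec (CommRingCat.of A))))
  have h1 : s * s = s := by
    refine (K416.EllGroup.mul_iff (zero W) (zero_str W) (isCurve hΔ) s s s).2 ⟨1, ?_⟩
    rw [map_one, _root_.mul_one]
  have h3 : s = 1 := mul_eq_left.mp h1
  have h4 : (1 : 𝟙_ (Over (Spec (CommRingCat.of A))) ⟶ Ew W) = η[Ew W] := by
    rw [Hom.one_def, toUnit_unique (toUnit _) (𝟙 _), Category.id_comp]
  rw [← h4, ← h3]
  exact Category.id_comp _

end grp

section main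

variable {k : Type u} [Field k] [IsAlgClosed k]

/-- **Points with `2 y + a₁ x + a₃ = 0` have order two.** -/
theorem exists_pt (W : WeierstrassCurve k) (hΔ : IsUnit W.Δ) (a b : k) (h : WEq W (RingHom.id k) a b)
    (h2 : 2 * b + W.a₁ * a + W.a₃ = 0) :
    letI := grp hΔ; ∃ P : 𝟙_ (Over (Spec (CommRingCat.of k))) ⟶ Ew W, P ≠ 1 ∧ P * P = 1 := by
  let _ := grp hΔ
  have hG := isAbSch hΔ
  have h1 := hG.proper
  have h1' := hG.smooth
  have h3 := hG.geomConnected
  have hη : (η[Ew W] : 𝟙_ _ ⟶ Ew W).left = zero W := one_left hΔ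
  have c : Co W (Ew W).hom (η[Ew W] : 𝟙_ _ ⟶ Ew W).left (oU W) := by
    rw [hη]
    exact co W
  have he : (η[Ew W] : 𝟙_ _ ⟶ Ew W).left ≫ (Ew W).hom = 𝟙 _ := Over.w (η[Ew W] : 𝟙_ _ ⟶ Ew W)
  have i1 : IsIso c.hom := c.isIso_hom (K820.Genus.ellFib (Ew W) hG) he
  obtain ⟨R, hR, hU, ha, hb⟩ := exists_point he c h
  let P : 𝟙_ (Over (Spec (CommRingCat.of k))) ⟶ Ew W := Over.homMk R hR
  obtain ⟨hU', hx, hy⟩ := K820.FieldGrp.exists_inv (Ew W) hG c P hU
  have hinv : P⁻¹ = P := by
    apply Over.OverMorphism.ext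
    refine eq_of_coords c _ _ (Over.w _) (Over.w _) hU' hU hx ?_
    rw [hy]
    have e1 : ev P.left (oU W) hU c.c.x = a := ha
    have e2 : ev P.left (oU W) hU c.c.y = b := hb
    rw [e1, e2]
    linear_combination -h2
  refine ⟨P, ?_, ?_⟩
  · intro h0
    have e1 : P.left = (η[Ew W] : 𝟙_ _ ⟶ Ew W).left := by
      rw [h0, MonObj.one_eq_one]
    exact (not_le_iff c P.left).2 ⟨IsLocalRing.closedPoint k, IsLocalRing.closedPoint k, by rw [e1]⟩ hU
  · nth_rewrite 2 [← hinv]
    exact mul_inv_cancel P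

/-- The ordinary curve `y² + x y = x³ + 1`. -/
def Wo (k : Type u) [CommRing k] : WeierstrassCurve k := ⟨1, 0, 0, 0, 1⟩

omit [IsAlgClosed k] in
theorem isUnit_Δ [CharP k 2] : IsUnit (Wo k).Δ := by
  have h2 : (2 : k) = 0 := CharTwo.two_eq_zero
  have h : (Wo k).Δ = 1 := by
    simp only [WeierstrassCurve.Δ, WeierstrassCurve.b₂, WeierstrassCurve.b₄, WeierstrassCurve.b₆,
      WeierstrassCurve.b₈, Wo]
    linear_combination (-217 : k) * h2
  rw [h]
  exact isUnit_one

/-- **An abelian variety with a point of order two in characteristic two.** -/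
theorem exists_point_order_two (k : Type u) [Field k] [IsAlgClosed k] [CharP k 2] :
    ∃ (X : Over (Spec (CommRingCat.of k))) (_ : GrpObj X) (_ : IsCommMonObj X) (_ : IsProper X.hom)
      (_ : Smooth X.hom) (_ : GeometricallyConnected X.hom)
      (P : 𝟙_ (Over (Spec (CommRingCat.of k))) ⟶ X), P ≠ 1 ∧ P * P = 1 := by
  let _ := grp (isUnit_Δ (k := k))
  have hG := isAbSch (isUnit_Δ (k := k))
  have hW : WEq (Wo k) (RingHom.id k) 0 1 := by
    simp [WEq, Wo]
  obtain ⟨P, h1, h2⟩ := exists_pt (Wo k) isUnit_Δ 0 1 hW (by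
    have h2 : (2 : k) = 0 := CharTwo.two_eq_zero
    simp [Wo, h2])
  exact ⟨Ew (Wo k), inferInstance, K820.FieldGrp.isCommMonObj (Ew (Wo k)) hG, hG.proper, hG.smooth, hG.geomConnected,
    P, h1, h2⟩

end main

end K409.PtTwo
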